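import Cfsg.Agent.H942.L7.Iface2
import Cfsg.Agent.H597.BrInv
import Cfsg.Agent.H953.Rank

/-!
# S5920, task DIM: Brauer character values and fixed spaces over `F₃` (helper451)

* `finrank_fix` : the dimension of the fixed space of a group of order invertible in `K` is the rank of the sum of the
  matrices;
* `dim` : `Cfsg.Agent.H942.L7.Dim`.
-/

set_option autoImplicit false

namespace Cfsg.Agent.H451.L7

open Cfsg Cfsg.Lie Cfsg.Agent.H657 IsLocalRing Module
open Cfsg.Agent.H942.E8Alc

/-- **The fixed space is the range of the sum of the matrices.** -/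
theorem finrank_fix {K ι P : Type*} [Field K] [Fintype ι] [DecidableEq ι] [Group P] [Fintype P]
    (A : P →* Matrix ι ι K) (hc : (Fintype.card P : K) ≠ 0) (W : Submodule K (ι → K))
    (hW : ∀ v, v ∈ W ↔ ∀ g, (A g).mulVec v = v) : finrank K W = (∑ g, A g).rank := by
  have h : W = LinearMap.range (∑ g, A g).mulVecLin := by
    ext v
    rw [hW]
    constructor
    · intro hv
      refine ⟨(Fintype.card P : K)⁻¹ • v, ?_⟩
      rw [Matrix.mulVecLin_apply, Matrix.mulVec_smul, Matrix.sum_mulVec, Finset.sum_congr rfl fun g _ => hv g,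
        Finset.sum_const, Finset.card_univ, ← Nat.cast_smul_eq_nsmul K, smul_smul, inv_mul_cancel₀ hc, one_smul]
    · rintro ⟨w, rfl⟩ g
      rw [Matrix.mulVecLin_apply, Matrix.mulVec_mulVec, Finset.mul_sum]
      congr 1
      refine Fintype.sum_equiv (Equiv.mulLeft g) _ _ fun x => ?_
      rw [Equiv.coe_mulLeft, map_mul]
  rw [h]
  rfl

/-- the subgroup given by a list -/
def grp {Q : Type*} [Group Q] (L : List Q) (h1 : (1 : Q) ∈ L) (hm : ∀ a ∈ L, ∀ b ∈ L, a * b ∈ L) : Subgroup Q where
  carrier := {g | g ∈ L}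
  one_mem' := h1
  mul_mem' := fun ha hb => hm _ ha _ hb
  inv_mem' := by
    classical
    intro a ha
    let f : {g // g ∈ L.toFinset} → {g // g ∈ L.toFinset} := fun b =>
      ⟨a * b, List.mem_toFinset.2 (hm _ ha _ (List.mem_toFinset.1 b.2))⟩
    have hf : Function.Injective f := by
      intro b c hbc
      exact Subtype.ext (mul_left_cancel (congrArg Subtype.val hbc))
    obtain ⟨b, hb⟩ := (Finite.injective_iff_surjective.1 hf) ⟨1, List.mem_toFinset.2 h1⟩
    have h2 : a * (b : Q) = 1 := congrArg Subtype.val hb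
    have h3 : a⁻¹ = b := inv_eq_of_mul_eq_one_right h2
    show a⁻¹ ∈ L
    rw [h3]
    exact List.mem_toFinset.1 b.2

/-- **Task DIM.** -/
theorem dim : Cfsg.Agent.H942.L7.Dim := by
  intro M V hM hV hch Q _ F L hnd h1 hm hco
  classical
  set P := grp L h1 hm with hP
  have hmem : ∀ g, g ∈ P ↔ g ∈ L.toFinset := fun g => (List.mem_toFinset (l := L) (a := g)).symm
  have hfin : Fintype P := Fintype.ofEquiv {g // g ∈ L.toFinset} (Equiv.subtypeEquivRight fun g => (hmem g).symm)
  have hcard : Fintype.card P = L.length := by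
    rw [← Nat.card_eq_fintype_card, Nat.card_congr (Equiv.subtypeEquivRight hmem : P ≃ {g // g ∈ L.toFinset}),
      Nat.card_eq_fintype_card (α := {g // g ∈ L.toFinset}), Fintype.card_coe, List.toFinset_card_of_nodup hnd]
  have hsum : ∀ f : Q → ℂ, ∑ g : P, f g = (L.map f).sum := by
    intro f
    rw [← List.sum_toFinset f hnd, ← Finset.sum_coe_sort L.toFinset f]
    exact Fintype.sum_equiv (Equiv.subtypeEquivRight hmem) _ _ fun x => rfl
  let σ : Representation (ResidueField V) P (chevE8.Idx → ResidueField V) := (adj V F).comp P.subtype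
  have hC := Cfsg.Agent.H597.BrInv.C hM hV (P := P) (by rw [hcard]; exact hco) σ
  have hbc : ∀ g : P, bc 3 σ g = bc 3 (adj V F) (g : Q) := fun g => rfl
  rw [Finset.sum_congr rfl fun g _ => hbc g, hsum (fun g => bc 3 (adj V F) g), hcard] at hC
  rw [hC]
  congr 2
  -- the ranks
  have hc3 : ∀ (K : Type) [Field K] [CharP K 3], (Fintype.card P : K) ≠ 0 := by
    intro K _ _ h
    rw [CharP.cast_eq_zero_iff K 3, hcard] at h
    exact (Nat.prime_three.coprime_iff_not_dvd.1 hco.symm) h
  let A : P →* Matrix chevE8.Idx chevE8.Idx (ZMod 3) :=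
    (Units.coeHom (Matrix chevE8.Idx chevE8.Idx (ZMod 3))).comp
      (((chevE8.group (ZMod 3)).subtype.comp F).comp P.subtype)
  have hA : ∀ g : P, A g = (((F g : ↥(chevE8.group (ZMod 3))) : GL chevE8.Idx (ZMod 3)) :
    Matrix chevE8.Idx chevE8.Idx (ZMod 3)) := fun g => rfl
  let B : P →* Matrix chevE8.Idx chevE8.Idx (ResidueField V) :=
    ((RingHom.mapMatrix (algebraMap (ZMod 3) (ResidueField V)) :
      Matrix chevE8.Idx chevE8.Idx (ZMod 3) →+* Matrix chevE8.Idx chevE8.Idx (ResidueField V)) :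
      Matrix chevE8.Idx chevE8.Idx (ZMod 3) →* Matrix chevE8.Idx chevE8.Idx (ResidueField V)).comp A
  have hB : ∀ g : P, B g = (A g).map (algebraMap (ZMod 3) (ResidueField V)) := fun g => rfl
  have e1 : finrank (ZMod 3) ↥(Cfsg.Agent.H942.L7.fixL F L) = (∑ g, A g).rank := by
    refine finrank_fix A (hc3 (ZMod 3)) _ fun v => ?_
    constructor
    · intro hv g
      rw [hA]
      exact hv g g.2
    · intro hv g hg
      exact hv ⟨g, hg⟩
  have e2 : finrank (ResidueField V) σ.invariants = (∑ g, B g).rank := by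
    refine finrank_fix B ?_ _ fun v => ?_
    · intro h
      rw [CharP.cast_eq_zero_iff (ResidueField V) 3, hcard] at h
      exact (Nat.prime_three.coprime_iff_not_dvd.1 hco.symm) h
    · exact Iff.rfl
  rw [e1, e2, Finset.sum_congr rfl fun g _ => hB g, ← Cfsg.Agent.H953.rank_map (algebraMap (ZMod 3) (ResidueField V))]
  congr 1
  ext i j
  simp only [Matrix.map_apply, Matrix.sum_apply, map_sum]

end Cfsg.Agent.H451.L7
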